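import Groth.Agent.VarBC.Dim
import Groth.Prelude.Def_IntMult
import Groth.Agent.IdealSh.Stalk
import Groth.Agent.CurveDVR.Stalk
import Groth.Agent.RegLoc.Basic

/-!
# Local rings of subvarieties at a point of their intersection
-/

set_option autoImplicit false
set_option linter.style.haveILetI false

universe u

open CategoryTheory AlgebraicGeometry TopologicalSpace

namespace Groth.Agent.IntMult88

variable {X : Scheme.{u}}

/-- Primes of the local ring containing the stalk ideal are the generalisations in the support. -/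
theorem stalkIdeal_le_iff (I : X.IdealSheafData) (ξ : X) (p : ↥(Spec (X.presheaf.stalk ξ))) :
    IntMult.stalkIdeal I ξ ≤ p.asIdeal ↔ X.fromSpecStalk ξ p ∈ I.support := by
  obtain ⟨_, ⟨U, hU, rfl⟩, hξ, -⟩ := X.isBasis_affineOpens.exists_subset_of_mem_open
    (Set.mem_univ ξ) isOpen_univ
  rw [IdealSh.stalkIdeal_eq I ⟨U, hU⟩ hξ, ← hU.fromSpecStalk_eq_fromSpecStalk hξ]
  delta IsAffineOpen.fromSpecStalk
  rw [Scheme.Hom.comp_apply]
  set q := Spec.map (X.presheaf.germ U ξ hξ) p with hq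
  have hy : hU.fromSpec q ∈ U := hU.range_fromSpec.le ⟨q, rfl⟩
  rw [Scheme.IdealSheafData.mem_support_iff_of_mem (U := ⟨U, hU⟩) hy]
  have : hU.fromSpec q ∈ X.zeroLocus (U := U) (I.ideal ⟨U, hU⟩ : Set Γ(X, U)) ↔
      q ∈ PrimeSpectrum.zeroLocus (I.ideal ⟨U, hU⟩ : Set Γ(X, U)) := by
    rw [← hU.fromSpec_preimage_zeroLocus]; rfl
  rw [this, Ideal.map_le_iff_le_comap]
  exact Iff.rfl

theorem stalkIdeal_le_maximalIdeal (I : X.IdealSheafData) (ξ : X) (hξ : ξ ∈ I.support) :
    IntMult.stalkIdeal I ξ ≤ IsLocalRing.maximalIdeal (X.presheaf.stalk ξ) :=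
  IsLocalRing.le_maximalIdeal fun h => (IdealSh.stalkIdeal_eq_top_iff I ξ).1 h hξ

/-- The generic point of an integral closed subscheme. -/
theorem exists_closure_eq (I : X.IdealSheafData) [IsIntegral I.subscheme] :
    ∃ η : X, closure {η} = (I.support : Set X) :=
  ⟨I.subschemeι (genericPoint I.subscheme), by
    rw [← Set.image_singleton, I.subschemeι.isClosedEmbedding.closure_image_eq,
      genericPoint_closure, Set.image_univ, I.range_subschemeι]⟩

/-- The stalk ideal of an integral closed subscheme is prime. -/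
theorem isPrime_stalkIdeal (I : X.IdealSheafData) [IsIntegral I.subscheme] (ξ : X)
    (hξ : ξ ∈ I.support) : (IntMult.stalkIdeal I ξ).IsPrime := by
  obtain ⟨_, ⟨U, hU, rfl⟩, hU', -⟩ := X.isBasis_affineOpens.exists_subset_of_mem_open
    (Set.mem_univ ξ) isOpen_univ
  obtain ⟨z, rfl⟩ : ξ ∈ Set.range I.subschemeι := by rw [I.range_subschemeι]; exact hξ
  haveI : Nonempty (I.subschemeι ⁻¹ᵁ U) := ⟨⟨z, hU'⟩⟩
  haveI : IsDomain Γ(I.subscheme, I.subschemeι ⁻¹ᵁ U) := IsIntegral.component_integral _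
  have hp : (I.ideal ⟨U, hU⟩).IsPrime := by
    rw [← I.ker_subschemeι_app ⟨U, hU⟩]
    exact RingHom.ker_isPrime _
  rw [IdealSh.stalkIdeal_eq I ⟨U, hU⟩ hU']
  letI := TopCat.Presheaf.algebra_section_stalk X.presheaf ⟨_, hU'⟩
  haveI := hU.isLocalization_stalk ⟨_, hU'⟩
  refine IsLocalization.isPrime_of_isPrime_disjoint
    (hU.primeIdealOf ⟨_, hU'⟩).asIdeal.primeCompl _ _ hp ?_
  rw [Set.disjoint_left]
  intro a ha haI
  refine ha ?_
  have hle := stalkIdeal_le_maximalIdeal I _ hξ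
  rw [IdealSh.stalkIdeal_eq I ⟨U, hU⟩ hU'] at hle
  have := hle (Ideal.mem_map_of_mem _ haI)
  exact (IsLocalization.AtPrime.to_map_mem_maximal_iff (X.presheaf.stalk _)
    (hU.primeIdealOf ⟨_, hU'⟩).asIdeal a).1 this

section Dim

variable (k : Type u) [Field k] [X.Over (Spec (CommRingCat.of k))]
  [LocallyOfFiniteType (X ↘ Spec (CommRingCat.of k))]

theorem dimPt_mono {x y : X} (h : y ≤ x) : VarDim.dimPt k X y ≤ VarDim.dimPt k X x :=
  (VarDim.exists_ltSeries_of_le k h).1

/-- The dimension of a quotient of a local ring, by dimensions of the points. -/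
theorem ringKrullDim_quotient_eq (ξ η : X) (h : η ⤳ ξ) (J : Ideal (X.presheaf.stalk ξ))
    (hJ : ∀ p : ↥(Spec (X.presheaf.stalk ξ)), J ≤ p.asIdeal ↔ η ⤳ X.fromSpecStalk ξ p) :
    ringKrullDim (X.presheaf.stalk ξ ⧸ J) =
      ((VarDim.dimPt k X η - VarDim.dimPt k X ξ : ℕ) : WithBot ℕ∞) := by
  set g := X.fromSpecStalk ξ
  have hrange : ∀ y : X, y ⤳ ξ → ∃ p, g p = y := fun y hy => by
    have : y ∈ Set.range g := by rw [Scheme.range_fromSpecStalk]; exact hy
    exact this
  have hgξ : ∀ p, ξ ≤ g p := fun p => by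
    have : g p ∈ Set.range g := ⟨p, rfl⟩
    rw [Scheme.range_fromSpecStalk] at this
    exact this
  have hord : ∀ p q : PrimeSpectrum (X.presheaf.stalk ξ), p ≤ q ↔ g q ≤ g p := fun p q =>
    (PrimeSpectrum.le_iff_specializes p q).trans (g.isEmbedding.isInducing.specializes_iff).symm
  have hlt : ∀ p q : PrimeSpectrum (X.presheaf.stalk ξ), p < q ↔ g q < g p := fun p q => by
    rw [lt_iff_le_not_ge, lt_iff_le_not_ge, hord, hord]
  rw [ringKrullDim_quotient]
  have hmem : ∀ p : PrimeSpectrum (X.presheaf.stalk ξ),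
      p ∈ PrimeSpectrum.zeroLocus (J : Set (X.presheaf.stalk ξ)) ↔ g p ≤ η := fun p => hJ p
  refine le_antisymm (iSup_le fun l => ?_) ?_
  · let F : PrimeSpectrum.zeroLocus (J : Set (X.presheaf.stalk ξ)) → ℕ := fun p =>
      VarDim.dimPt k X η - VarDim.dimPt k X (g p.1)
    have hb : ∀ p : PrimeSpectrum.zeroLocus (J : Set (X.presheaf.stalk ξ)),
        VarDim.dimPt k X ξ ≤ VarDim.dimPt k X (g p.1) ∧
          VarDim.dimPt k X (g p.1) ≤ VarDim.dimPt k X η := fun p =>
      ⟨dimPt_mono k (hgξ p.1),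
        dimPt_mono k ((hmem p.1).1 p.2)⟩
    have hF : StrictMono F := fun p q hpq => by
      have := VarDim.dimPt_lt_of_lt k ((hlt p.1 q.1).1 hpq)
      have := hb p; have := hb q
      simp only [F]; omega
    have h1 := LTSeries.head_add_length_le_nat (l.map F hF)
    simp only [LTSeries.map_length, LTSeries.last_map] at h1
    have h2 : F l.last ≤ VarDim.dimPt k X η - VarDim.dimPt k X ξ := by
      have := hb l.last; simp only [F]; omega
    exact_mod_cast (by omega : l.length ≤ VarDim.dimPt k X η - VarDim.dimPt k X ξ)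
  · obtain ⟨-, l, hl0, hl1, hl2⟩ := VarDim.exists_ltSeries_of_le k (show ξ ≤ η from h)
    choose q hq using fun i => hrange (l i) (show ξ ≤ l i from hl0 ▸ l.monotone (Fin.zero_le i))
    let l' : LTSeries (PrimeSpectrum.zeroLocus (J : Set (X.presheaf.stalk ξ))) :=
      LTSeries.mk l.length (fun i => ⟨q i.rev, (hmem _).2 (hq i.rev ▸
        (l.monotone (Fin.le_last i.rev)).trans hl1)⟩) (fun i j hij => (hlt _ _).2 (by
          rw [hq, hq]; exact l.strictMono (Fin.rev_lt_rev.mpr hij)))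
    refine le_of_eq_of_le ?_ (Order.LTSeries.length_le_krullDim l')
    have : l'.length = VarDim.dimPt k X η - VarDim.dimPt k X ξ := by
      show l.length = _
      omega
    rw [this]

theorem ringKrullDim_stalk_eq [IsIntegral X] {n : ℕ} (hn : topologicalKrullDim X = n) (ξ : X) :
    ringKrullDim (X.presheaf.stalk ξ) = ((n - VarDim.dimPt k X ξ : ℕ) : WithBot ℕ∞) ∧
      VarDim.dimPt k X ξ ≤ n := by
  have hg : VarDim.dimPt k X (genericPoint X) = n := by
    have h := (VarDim.topologicalKrullDim_eq_of_irreducible k (X := X)).symm.trans hn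
    exact_mod_cast h
  refine ⟨?_, hg ▸ dimPt_mono k (genericPoint_specializes ξ)⟩
  have h := ringKrullDim_quotient_eq k ξ (genericPoint X) (genericPoint_specializes ξ) ⊥
    (fun p => ⟨fun _ => genericPoint_specializes _, fun _ => bot_le⟩)
  rw [hg] at h
  rw [← h]
  exact (ringKrullDim_eq_of_ringEquiv (RingEquiv.quotientBot _)).symm

theorem ringKrullDim_subvariety (I : X.IdealSheafData) [IsIntegral I.subscheme] {r : ℕ}
    (hr : topologicalKrullDim I.support = r) (ξ : X) (hξ : ξ ∈ I.support) :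
    ringKrullDim (X.presheaf.stalk ξ ⧸ IntMult.stalkIdeal I ξ) =
        ((r - VarDim.dimPt k X ξ : ℕ) : WithBot ℕ∞) ∧ VarDim.dimPt k X ξ ≤ r := by
  obtain ⟨η, hη⟩ := exists_closure_eq I
  have hd : VarDim.dimPt k X η = r := by
    have h := VarBC.Dim.topDim_closure k η
    rw [hη] at h
    exact_mod_cast h.symm.trans hr
  have hsp : ∀ y, y ∈ I.support ↔ η ⤳ y := fun y => by
    rw [specializes_iff_mem_closure, hη]; rfl
  refine ⟨?_, hd ▸ dimPt_mono k ((hsp ξ).1 hξ)⟩
  rw [ringKrullDim_quotient_eq k ξ η ((hsp ξ).1 hξ) (IntMult.stalkIdeal I ξ)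
    (fun p => (stalkIdeal_le_iff I ξ p).trans (hsp _)), hd]

end Dim

/-- The data at the generic point of a component of a proper intersection. -/
theorem setup {K : Type u} [Field K] {X : Scheme.{u}} (f : X ⟶ Spec (CommRingCat.of K)) [Smooth f]
    [IsIntegral X] (IV IW : X.IdealSheafData) [IsIntegral IV.subscheme] [IsIntegral IW.subscheme]
    {n r s : ℕ} (hn : topologicalKrullDim X = n) (hr : topologicalKrullDim IV.support = r)
    (hs : topologicalKrullDim IW.support = s)
    (hprop : IntMult.ProperInt (IV.support : Set X) (IW.support : Set X) n r s) (ξ : X)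
    (hξV : ξ ∈ IV.support) (hξW : ξ ∈ IW.support)
    (hmax : ∀ ξ' : X, ξ' ∈ IV.support → ξ' ∈ IW.support → ξ' ⤳ ξ → ξ' = ξ) :
    IsRegularLocalRing (X.presheaf.stalk ξ) ∧
    IsLocalRing.maximalIdeal (X.presheaf.stalk ξ) ≤
      (IntMult.stalkIdeal IV ξ ⊔ IntMult.stalkIdeal IW ξ).radical ∧
    ∃ d a b : ℕ, ringKrullDim (X.presheaf.stalk ξ) = d ∧
      ringKrullDim (X.presheaf.stalk ξ ⧸ IntMult.stalkIdeal IV ξ) = a ∧
      ringKrullDim (X.presheaf.stalk ξ ⧸ IntMult.stalkIdeal IW ξ) = b ∧ d ≤ a + b := by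
  refine ⟨CurveDVR.isRegularLocalRing_stalk f ξ, ?_, ?_⟩
  · rw [Ideal.radical_eq_sInf]
    refine le_sInf ?_
    rintro J ⟨hJ, hJp⟩
    let p : ↥(Spec (X.presheaf.stalk ξ)) := ⟨J, hJp⟩
    have h1 := (stalkIdeal_le_iff IV ξ p).1 (le_sup_left.trans hJ)
    have h2 := (stalkIdeal_le_iff IW ξ p).1 (le_sup_right.trans hJ)
    have h3 : X.fromSpecStalk ξ p ∈ Set.range (X.fromSpecStalk ξ) := ⟨p, rfl⟩
    rw [Scheme.range_fromSpecStalk] at h3
    have h4 : p = IsLocalRing.closedPoint (X.presheaf.stalk ξ) :=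
      (X.fromSpecStalk ξ).isEmbedding.injective
        ((hmax _ h1 h2 h3).trans Scheme.fromSpecStalk_closedPoint.symm)
    exact (congrArg PrimeSpectrum.asIdeal h4).ge
  · letI : X.Over (Spec (CommRingCat.of K)) := ⟨f⟩
    haveI : LocallyOfFiniteType (X ↘ Spec (CommRingCat.of K)) :=
      inferInstanceAs (LocallyOfFiniteType f)
    obtain ⟨hd, hdn⟩ := ringKrullDim_stalk_eq K hn ξ
    obtain ⟨ha, har⟩ := ringKrullDim_subvariety K IV hr ξ hξV
    obtain ⟨hb, hbs⟩ := ringKrullDim_subvariety K IW hs ξ hξW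
    refine ⟨_, _, _, hd, ha, hb, ?_⟩
    obtain ⟨hle, hdim⟩ := hprop ⟨ξ, hξV, hξW⟩
    have h1 : topologicalKrullDim (closure {ξ} : Set X) ≤
        topologicalKrullDim ↥((IV.support : Set X) ∩ IW.support) :=
      (Topology.IsEmbedding.inclusion (closure_minimal
        (Set.singleton_subset_iff.2 (show ξ ∈ (IV.support : Set X) ∩ IW.support from ⟨hξV, hξW⟩))
        (IV.support.isClosed.inter IW.support.isClosed))).isInducing.topologicalKrullDim_le
    rw [VarBC.Dim.topDim_closure K ξ] at h1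
    have h2 : VarDim.dimPt K X ξ ≤ r + s - n := by exact_mod_cast h1.trans hdim
    omega

end Groth.Agent.IntMult88
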