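import Groth.Agent.IntMult88.Acyclic
import Groth.Agent.IntMult88.Geom
import Groth.Agent.S0563
import Mathlib.LinearAlgebra.LinearIndependent.Lemmas
import Mathlib.RingTheory.Ideal.Cotangent

/-!
# Intersection multiplicities equal to lengths
-/

set_option autoImplicit false
set_option linter.style.haveILetI false

universe u

open CategoryTheory IsLocalRing

namespace Groth.Agent.IntMult88

variable {A : Type u} [CommRing A] [IsRegularLocalRing A] {d : ℕ}

theorem depth_eq_dim (hd : ringKrullDim A = d) : LocCoh.depth A A = (d : ℕ∞) := by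
  haveI := Depth.isCohenMacaulayLocalRing_of_isRegularLocalRing (R := A)
  apply WithBot.coe_injective
  rw [← LocCoh.IsCohenMacaulayLocalRing.supportDim_eq_depth,
    Module.supportDim_self_eq_ringKrullDim, hd]
  rfl

theorem depth_quotient_of_isCohenMacaulay (I : Ideal A) {a : ℕ}
    (hI : LocCoh.IsCohenMacaulayLocalRing (A ⧸ I)) (ha : ringKrullDim (A ⧸ I) = a) :
    LocCoh.depth A (A ⧸ I) = (a : ℕ∞) := by
  have h : LocCoh.IsCohenMacaulayModule A (A ⧸ I) :=
    (Depth.isCohenMacaulayModule_iff_of_surjective (R := A) (S := A ⧸ I) (N := A ⧸ I)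
      Ideal.Quotient.mk_surjective).1 (Depth.isCohenMacaulayModule_self (A ⧸ I))
  apply WithBot.coe_injective
  rw [← h, Module.supportDim_quotient_eq_ringKrullDim, ha]
  rfl

theorem pd_le_of_depth (hd : ringKrullDim A = d) (M : Type u) [AddCommGroup M] [Module A M]
    [Module.Finite A M] (p : ℕ) (h : ((d - p : ℕ) : ℕ∞) ≤ LocCoh.depth A M) :
    HasProjectiveDimensionLE (ModuleCat.of A M) p :=
  (AuslBuchs.le_depth_iff (depth_eq_dim hd) p d M (S0563.result A d hd M)).1 h

theorem chi_eq_length_of_CM (hd : ringKrullDim A = d) (P Q : Ideal A) {a b : ℕ}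
    (ha : ringKrullDim (A ⧸ P) = a) (hb : ringKrullDim (A ⧸ Q) = b) (hab : d ≤ a + b)
    (hPQ : maximalIdeal A ≤ (P ⊔ Q).radical) (hP : LocCoh.IsCohenMacaulayLocalRing (A ⧸ P))
    (hQ : LocCoh.IsCohenMacaulayLocalRing (A ⧸ Q)) :
    IntMult.chi A (A ⧸ Q) (A ⧸ P) = ((Module.length A (A ⧸ (P ⊔ Q))).toNat : ℤ) := by
  refine chi_quot_eq_length P Q hPQ b (pd_le_of_depth hd _ b ?_)
    (depth_quotient_of_isCohenMacaulay Q hQ hb).ge
  rw [depth_quotient_of_isCohenMacaulay P hP ha]
  exact_mod_cast (by omega : d - b ≤ a)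

theorem depth_quotient_regularSeq (hd : ringKrullDim A = d) {c : ℕ} (g : Fin c → A)
    (hreg : RingTheory.Sequence.IsRegular A (List.ofFn g)) :
    c ≤ d ∧ LocCoh.depth A (A ⧸ Ideal.span (Set.range g)) = ((d - c : ℕ) : ℕ∞) ∧
      ringKrullDim (A ⧸ Ideal.span (Set.range g)) + (c : WithBot ℕ∞) = (d : WithBot ℕ∞) := by
  have hle : Ideal.ofList (List.ofFn g) ≤ maximalIdeal A := le_maximalIdeal
    (fun htop => hreg.top_ne_smul (by rw [htop, Submodule.top_smul]))
  have hm : ∀ r ∈ List.ofFn g, r ∈ maximalIdeal A := fun r hr => hle (Ideal.subset_span hr)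
  have hof : Ideal.ofList (List.ofFn g) = Ideal.span (Set.range g) := by
    rw [Ideal.ofList]; congr 1; ext x; simp [List.mem_ofFn]
  have h := Depth.idealDepth_quotient_add_length (List.ofFn g) A hreg.toIsWeaklyRegular hm
  rw [List.length_ofFn, ← Depth.depth_eq_idealDepth (M := A), depth_eq_dim hd,
    Depth.idealDepth_congr (Submodule.quotEquivOfEq _ _
      (show Ideal.ofList (List.ofFn g) • (⊤ : Submodule A A) = Ideal.span (Set.range g) by
        rw [hof, Ideal.smul_eq_mul, Ideal.mul_top]))] at h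
  have h2 : LocCoh.depth A (A ⧸ Ideal.span (Set.range g)) + (c : ℕ∞) = d := h
  generalize LocCoh.depth A (A ⧸ Ideal.span (Set.range g)) = q at h2
  induction q using ENat.recTopCoe with
  | top => simp at h2
  | coe q =>
    have h3 : q + c = d := by exact_mod_cast h2
    refine ⟨by omega, by exact_mod_cast (by omega : q = d - c), ?_⟩
    have h4 := ringKrullDim_add_length_eq_ringKrullDim_of_isRegular (List.ofFn g) hreg
    rw [List.length_ofFn, hd] at h4
    rw [← h4, ringKrullDim_eq_of_ringEquiv (Ideal.quotEquivOfEq hof.symm)]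

theorem chi_eq_length_of_regularSeq_of_CM (hd : ringKrullDim A = d) (P Q : Ideal A) {a b : ℕ}
    (ha : ringKrullDim (A ⧸ P) = a) (hb : ringKrullDim (A ⧸ Q) = b) (hab : d ≤ a + b)
    (hPQ : maximalIdeal A ≤ (P ⊔ Q).radical) {c : ℕ} (g : Fin c → A)
    (hg : P = Ideal.span (Set.range g)) (hreg : RingTheory.Sequence.IsRegular A (List.ofFn g))
    (hQ : LocCoh.IsCohenMacaulayLocalRing (A ⧸ Q)) :
    IntMult.chi A (A ⧸ Q) (A ⧸ P) = ((Module.length A (A ⧸ (P ⊔ Q))).toNat : ℤ) := by
  obtain ⟨hc, hdep, hdim⟩ := depth_quotient_regularSeq hd g hreg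
  subst hg
  rw [ha] at hdim
  have hac : a + c = d := by exact_mod_cast hdim
  refine chi_quot_eq_length _ Q hPQ c (pd_le_of_depth hd _ c ?_) ?_
  · rw [hdep]
  · rw [depth_quotient_of_isCohenMacaulay Q hQ hb]
    exact_mod_cast (by omega : c ≤ b)

theorem chi_eq_length_of_cartier (hd : ringKrullDim A = d) (P Q : Ideal A) [Q.IsPrime] {a b : ℕ}
    (ha : ringKrullDim (A ⧸ P) = a) (hb : ringKrullDim (A ⧸ Q) = b) (hab : d ≤ a + b)
    (hPQ : maximalIdeal A ≤ (P ⊔ Q).radical) (g : A) (hg : P = Ideal.span {g})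
    (hreg : IsSMulRegular A g) (hgm : g ∈ maximalIdeal A) :
    IntMult.chi A (A ⧸ Q) (A ⧸ P) = ((Module.length A (A ⧸ (P ⊔ Q))).toNat : ℤ) := by
  have hr : RingTheory.Sequence.IsRegular A (List.ofFn fun _ : Fin 1 => g) := by
    rw [IsLocalRing.isRegular_iff_isWeaklyRegular_of_subset_maximalIdeal (by simpa using hgm)]
    simpa using (RingTheory.Sequence.isWeaklyRegular_singleton_iff A g).2 hreg
  obtain ⟨hc, hdep, hdim⟩ := depth_quotient_regularSeq hd _ hr
  have hP : P = Ideal.span (Set.range fun _ : Fin 1 => g) := by rw [hg, Set.range_const]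
  subst hP
  rw [ha] at hdim
  have hac : a + 1 = d := by exact_mod_cast hdim
  refine chi_quot_eq_length _ Q hPQ 1 (pd_le_of_depth hd _ 1 ?_) ?_
  · rw [hdep]
  · haveI : Nontrivial (A ⧸ Q) := Ideal.Quotient.nontrivial_iff.2 Ideal.IsPrime.ne_top'
    refine Depth.one_le_idealDepth_iff.2 fun p hp hle => ?_
    rw [associatedPrimes.eq_singleton_of_isPrimary (Ideal.IsPrime.isPrimary inferInstance), Ideal.IsPrime.radical inferInstance] at hp
    · rw [Set.mem_singleton_iff] at hp
      rw [hp] at hle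
      have hQm : Q = maximalIdeal A := le_antisymm (le_maximalIdeal Ideal.IsPrime.ne_top') hle
      subst hQm
      have h0 : ringKrullDim (A ⧸ maximalIdeal A) = 0 := by
        letI := Ideal.Quotient.field (maximalIdeal A)
        exact ringKrullDim_eq_zero_of_field _
      rw [hb] at h0
      have : b = 0 := by exact_mod_cast h0
      omega

theorem exists_span_union (P Q : Ideal A) (hd : ringKrullDim A = d)
    (hPQ : P ⊔ Q = maximalIdeal A) :
    ∃ G : Finset A, (∀ x ∈ G, x ∈ P ∨ x ∈ Q) ∧ Ideal.span (G : Set A) = maximalIdeal A ∧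
      G.card ≤ d := by
  classical
  let t : Set (maximalIdeal A) := {x | (x : A) ∈ P ∨ (x : A) ∈ Q}
  have ht : Submodule.span A t = ⊤ := by
    apply Submodule.map_injective_of_injective (maximalIdeal A).injective_subtype
    rw [Submodule.map_span, Submodule.map_top, Submodule.range_subtype]
    refine le_antisymm (Submodule.span_le.2 (by rintro _ ⟨x, -, rfl⟩; exact x.2)) ?_
    conv_lhs => rw [← hPQ]
    refine sup_le (fun x hx => Submodule.subset_span ⟨⟨x, hPQ ▸ Ideal.mem_sup_left hx⟩, Or.inl hx, rfl⟩)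
      (fun x hx => Submodule.subset_span ⟨⟨x, hPQ ▸ Ideal.mem_sup_right hx⟩, Or.inr hx, rfl⟩)
  obtain ⟨b, hbt, hspan, hli⟩ := exists_linearIndependent (ResidueField A)
    ((maximalIdeal A).toCotangent '' t)
  rw [CotangentSpace.span_image_eq_top_iff.2 ht] at hspan
  haveI : Fintype b := hli.setFinite.fintype
  have hcard : Fintype.card b ≤ d := by
    refine hli.fintype_card_le_finrank.trans ?_
    rw [← spanFinrank_maximalIdeal_eq_finrank_cotangentSpace, RegLoc.spanFinrank_eq_dim hd]
  choose l hl hl' using fun y : b => hbt y.2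
  refine ⟨Finset.univ.image fun y : b => ((l y : maximalIdeal A) : A), ?_, ?_, ?_⟩
  · simp only [Finset.mem_image, Finset.mem_univ, true_and, forall_exists_index,
      forall_apply_eq_imp_iff]
    exact fun y => hl y
  · have himg : (maximalIdeal A).toCotangent '' (Set.range l) = b := by
      rw [← Set.range_comp]
      ext z
      refine ⟨fun ⟨y, hy⟩ => ?_, fun hz => ⟨⟨z, hz⟩, hl' ⟨z, hz⟩⟩⟩
      rw [← hy, Function.comp_apply, hl' y]
      exact y.2
    have h2 : Submodule.span A (Set.range l) = ⊤ :=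
      CotangentSpace.span_image_eq_top_iff.1 (by rw [himg]; exact hspan)
    have h3 := congrArg (Submodule.map (maximalIdeal A).subtype) h2
    rw [Submodule.map_span, Submodule.map_top, Submodule.range_subtype, ← Set.range_comp] at h3
    rw [Finset.coe_image, Finset.coe_univ, Set.image_univ]
    exact h3
  · exact Finset.card_image_le.trans (by rwa [Finset.card_univ])

theorem regular_of_sup_eq_maximalIdeal (hd : ringKrullDim A = d) (P Q : Ideal A) {a b : ℕ}
    (ha : ringKrullDim (A ⧸ P) = a) (hb : ringKrullDim (A ⧸ Q) = b) (hab : d ≤ a + b)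
    (hPQ : P ⊔ Q = maximalIdeal A) :
    IsRegularLocalRing (A ⧸ P) ∧ IsRegularLocalRing (A ⧸ Q) := by
  classical
  obtain ⟨G, hG, hspan, hcard⟩ := exists_span_union P Q hd hPQ
  have key : ∀ (I : Ideal A) (e : ℕ) (S : Finset A), I ≤ maximalIdeal A →
      ringKrullDim (A ⧸ I) = e → (∀ x ∈ G, x ∈ I ∨ x ∈ S) →
      e ≤ S.card ∧ (S.card ≤ e → IsRegularLocalRing (A ⧸ I)) := by
    intro I e S hI he hS
    haveI := RegLoc.isLocalRing_quotient hI
    have hle : (maximalIdeal (A ⧸ I)).spanFinrank ≤ S.card := by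
      have h1 : maximalIdeal (A ⧸ I) ≤ Ideal.span (S.image (Ideal.Quotient.mk I) : Set (A ⧸ I)) := by
        rw [RegLoc.maximalIdeal_quotient_eq_map, ← hspan, Ideal.map_span, Ideal.span_le]
        rintro _ ⟨x, hx, rfl⟩
        rcases hS x hx with h | h
        · rw [Ideal.Quotient.eq_zero_iff_mem.2 h]; exact zero_mem _
        · exact Ideal.subset_span (by simpa using ⟨x, h, rfl⟩)
      let S' := (S.filter (fun x => x ∈ maximalIdeal A)).image (Ideal.Quotient.mk I)
      have h2 : maximalIdeal (A ⧸ I) = Ideal.span (S' : Set (A ⧸ I)) := by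
        refine le_antisymm ?_ ?_
        · rw [RegLoc.maximalIdeal_quotient_eq_map, ← hspan, Ideal.map_span, Ideal.span_le]
          rintro _ ⟨x, hx, rfl⟩
          rcases hS x hx with h | h
          · rw [Ideal.Quotient.eq_zero_iff_mem.2 h]; exact zero_mem _
          · exact Ideal.subset_span (Finset.mem_image_of_mem _
              (Finset.mem_filter.2 ⟨h, hspan ▸ Ideal.subset_span hx⟩))
        · rw [Ideal.span_le, Finset.coe_image]
          rintro _ ⟨x, hx, rfl⟩
          rw [RegLoc.maximalIdeal_quotient_eq_map]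
          exact Ideal.mem_map_of_mem _ (Finset.mem_filter.1 hx).2
      rw [h2]
      refine (Submodule.spanFinrank_span_le_ncard_of_finite (Finset.finite_toSet _)).trans ?_
      rw [Set.ncard_coe_finset]
      exact Finset.card_image_le.trans (Finset.card_filter_le _ _)
    have h3 := (ringKrullDim_le_spanFinrank_maximalIdeal (A ⧸ I))
    rw [he] at h3
    have h4 : e ≤ (maximalIdeal (A ⧸ I)).spanFinrank := by exact_mod_cast h3
    refine ⟨h4.trans hle, fun h => IsRegularLocalRing.of_spanFinrank_maximalIdeal_le _ ?_⟩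
    rw [he]
    exact_mod_cast hle.trans h
  have hP := key P a (G.filter (fun x => x ∉ P)) (hPQ ▸ le_sup_left) ha
    (fun x hx => (em (x ∈ P)).imp_right fun h => Finset.mem_filter.2 ⟨hx, h⟩)
  have hQ := key Q b (G.filter (fun x => x ∈ P)) (hPQ ▸ le_sup_right) hb (fun x hx => by
    by_cases h : x ∈ P
    · exact Or.inr (Finset.mem_filter.2 ⟨hx, h⟩)
    · exact Or.inl ((hG x hx).resolve_left h))
  have hsum := Finset.card_filter_add_card_filter_not (s := G) (fun x => x ∈ P)
  have := hP.1; have := hQ.1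
  exact ⟨hP.2 (by omega), hQ.2 (by omega)⟩

end Groth.Agent.IntMult88
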