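import Groth.Agent.KosTor.Basic
import Groth.Agent.DRing.TorBalance

/-!
# The Tor intersection number is symmetric
-/

set_option autoImplicit false

universe u

open CategoryTheory CategoryTheory.Limits MonoidalCategory
open Groth.Agent.DRing
open scoped TensorProduct

attribute [local instance] HasDerivedCategory.standard

namespace Groth.Agent.IntMult88

variable {A : Type u} [CommRing A]

/-- `Tor_{k+1}` as the homology of a cochain complex. -/
theorem nonempty_tor_succ_iso {N : ModuleCat.{u} A} (R : ProjectiveResolution N) (M : ModuleCat.{u} A)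
    (k : ℕ) :
    Nonempty (((CategoryTheory.Tor (ModuleCat.{u} A) (k + 1)).obj M).obj N ≅
      (_root_.DRing.tensorCx R.cochainComplex M).homology (-((k + 1 : ℕ) : ℤ))) := by
  let C := ((tensorLeft M).mapHomologicalComplex (ComplexShape.down ℕ)).obj R.complex
  let D := _root_.DRing.tensorCx R.cochainComplex M
  let e₀ : D.sc' (-((k + 2 : ℕ) : ℤ)) (-((k + 1 : ℕ) : ℤ)) (-(k : ℤ)) ≅ C.sc' (k + 2) (k + 1) k :=
    ShortComplex.isoMk (TorBalance.resXIso R M _ (k + 2) rfl) (TorBalance.resXIso R M _ (k + 1) rfl)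
      (TorBalance.resXIso R M _ k rfl)
      (TorBalance.resXIso_comm R M _ _ (k + 2) (k + 1) rfl rfl).symm
      (TorBalance.resXIso_comm R M _ _ (k + 1) k rfl rfl).symm
  let e₁ := C.isoSc' (k + 2) (k + 1) k (by simp) (by simp)
  let e₂ := D.isoSc' (-((k + 2 : ℕ) : ℤ)) (-((k + 1 : ℕ) : ℤ)) (-(k : ℤ)) (by simp; omega) (by simp)
  exact ⟨(R.isoLeftDerivedObj (tensorLeft M) (k + 1)) ≪≫
    ShortComplex.homologyMapIso (e₁ ≪≫ e₀.symm ≪≫ e₂.symm)⟩

theorem length_tor_comm (M N : Type u) [AddCommGroup M] [Module A M] [AddCommGroup N] [Module A N]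
    (i : ℕ) : Module.length A (_root_.DRing.Tor A i M N) = Module.length A (_root_.DRing.Tor A i N M) := by
  cases i with
  | zero =>
    haveI : PreservesFiniteColimits (tensorLeft (ModuleCat.of A M)) :=
      PreservesColimitsOfSize.preservesFiniteColimits _
    haveI : PreservesFiniteColimits (tensorLeft (ModuleCat.of A N)) :=
      PreservesColimitsOfSize.preservesFiniteColimits _
    refine (((tensorLeft (ModuleCat.of A M)).leftDerivedZeroIsoSelf.app
      (ModuleCat.of A N)).toLinearEquiv.length_eq).trans (Eq.trans ?_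
      (((tensorLeft (ModuleCat.of A N)).leftDerivedZeroIsoSelf.app
      (ModuleCat.of A M)).toLinearEquiv.length_eq).symm)
    exact (TensorProduct.comm A M N).length_eq
  | succ k =>
    obtain ⟨R⟩ := HasProjectiveResolution.out (Z := ModuleCat.of A N)
    obtain ⟨R'⟩ := HasProjectiveResolution.out (Z := ModuleCat.of A M)
    obtain ⟨a⟩ := nonempty_tor_succ_iso R (ModuleCat.of A M) k
    obtain ⟨a'⟩ := nonempty_tor_succ_iso R' (ModuleCat.of A N) k
    obtain ⟨b⟩ := KosTor.nonempty_homology_balance R (TorBalance.isKFlat_cochainComplex R')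
      (TorBalance.resIso R') (-((k + 1 : ℕ) : ℤ))
    exact (a ≪≫ b ≪≫ a'.symm).toLinearEquiv.length_eq

theorem chi_comm (M N : Type u) [AddCommGroup M] [Module A M] [AddCommGroup N] [Module A N] :
    IntMult.chi A M N = IntMult.chi A N M := by
  unfold IntMult.chi
  exact finsum_congr fun i => by rw [length_tor_comm M N i]

end Groth.Agent.IntMult88
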