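import Groth.Agent.EGA41Lib.TorShift
import Groth.Agent.Depth.Local
import Groth.Agent.AuslBuchs.Basic
import Groth.Agent.Depth.CM
import Groth.Prelude.Def_IntMult
import Mathlib.RingTheory.Regular.RegularSequence

/-!
# Vanishing of higher `Tor` with punctual supports below the depth

If every element of a set generating an `m`-primary ideal either kills `N` or acts on `M` through
a free module, and `pd M ≤ p ≤ depth N`, then `Tor_{>0}(N, M) = 0` (Peskine–Szpiro, elementary
form); consequently the Tor intersection number is the length of `N ⊗ M`.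
-/

set_option autoImplicit false
set_option linter.style.haveILetI false

universe u

open CategoryTheory CategoryTheory.Limits MonoidalCategory
open scoped TensorProduct

namespace Groth.Agent.IntMult88

variable {A : Type u} [CommRing A] [IsLocalRing A] [IsNoetherianRing A]

local notation "dep" => LocCoh.depth

/-- `a` kills `N` or factors through a finite free module on `M`. -/
def Splits (N M : Type u) [AddCommGroup N] [Module A N] [AddCommGroup M] [Module A M] (a : A) :
    Prop :=
  (∀ x : N, a • x = 0) ∨ ∃ (r : ℕ) (h : M →ₗ[A] Fin r → A) (π : (Fin r → A) →ₗ[A] M),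
    ∀ m, π (h m) = a • m

theorem depth_le_tensor_flat (N M : Type u) [AddCommGroup N] [Module A N] [Module.Finite A N]
    [AddCommGroup M] [Module A M] [Module.Flat A M] :
    dep A N ≤ dep A (N ⊗[A] M) := by
  rcases subsingleton_or_nontrivial N with hN | hN
  · exact le_of_le_of_eq le_top
      (Depth.idealDepth_eq_top_of_subsingleton (I := IsLocalRing.maximalIdeal A) (M := N ⊗[A] M)).symm
  rw [Depth.depth_eq_idealDepth, Depth.depth_eq_idealDepth]
  refine ENat.forall_natCast_le_iff_le.mp fun n hn => ?_
  obtain ⟨rs, hrs, hm, hlen⟩ := Depth.exists_isWeaklyRegular_of_le_idealDepth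
    (Depth.smul_top_ne_top_of_le_maximalIdeal le_rfl) hn
  have h1 := (hrs.isWeaklyRegular_lTensor (M₂ := M))
  have h2 := ((TensorProduct.comm A M N).isWeaklyRegular_congr rs).1 h1
  exact hlen ▸ Depth.le_idealDepth_of_isWeaklyRegular h2 hm

theorem enat_arith {a k b c : ℕ∞} {p : ℕ} (h1 : a ≤ b) (h2 : a ≤ k + p) (hk : 1 ≤ k)
    (h3 : min b (k - 1) ≤ c) : a ≤ c + ((p + 1 : ℕ) : ℕ∞) := by
  induction c using ENat.recTopCoe with
  | top => simp
  | coe c =>
    rcases min_le_iff.1 h3 with h | h
    · exact (h1.trans h).trans le_self_add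
    · induction k using ENat.recTopCoe with
      | top => exact absurd h (by simp)
      | coe k =>
        have h' : k - 1 ≤ c := by exact_mod_cast h
        have hk' : 1 ≤ k := by exact_mod_cast hk
        refine h2.trans ?_
        exact_mod_cast (by omega : k + p ≤ c + (p + 1))

/-- The elementary intersection lemma: vanishing of Tor, and the depth of the tensor product. -/
theorem acyclic {N : Type u} [AddCommGroup N] [Module A N] [Module.Finite A N] (T : Set A)
    (hT : IsLocalRing.maximalIdeal A ≤ (Ideal.span T).radical) :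
    ∀ (p : ℕ) (M : Type u) [AddCommGroup M] [Module A M] [Module.Finite A M],
      HasProjectiveDimensionLE (ModuleCat.of A M) p → (p : ℕ∞) ≤ dep A N →
      (∀ a ∈ T, Splits N M a) →
      (∀ j : ℕ, IsZero (((Tor (ModuleCat.{u} A) (j + 1)).obj (ModuleCat.of A N)).obj (ModuleCat.of A M))) ∧
        dep A N ≤ dep A (N ⊗[A] M) + p := by
  intro p
  induction p with
  | zero =>
    intro M _ _ _ hpd _ _
    haveI : Module.Projective A M := (RegLoc.PD.pd_zero_iff M).mp hpd
    haveI : Projective (ModuleCat.of A M) := (IsProjective.iff_projective M).mp inferInstance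
    refine ⟨fun j => isZero_Tor_succ_of_projective (ModuleCat.{u} A) _ (ModuleCat.of A M) j, ?_⟩
    simpa using depth_le_tensor_flat N M
  | succ p ih =>
    intro M _ _ _ hpd hdep hsp
    obtain ⟨r, f, hf⟩ := Module.Finite.exists_fin' A M
    let K := LinearMap.ker f
    have hK := (RegLoc.PD.pd_shift f hf p).mp hpd
    have hlift : ∀ a ∈ T, (∀ x : N, a • x = 0) ∨
        ∃ e : (Fin r → A) →ₗ[A] K, e ∘ₗ K.subtype = a • LinearMap.id := by
      intro a ha
      rcases hsp a ha with h | ⟨r', h, π, hπ⟩
      · exact Or.inl h
      · obtain ⟨σ, hσ⟩ := Module.projective_lifting_property f π hf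
        have hmem : ∀ v, ((a • LinearMap.id - (σ ∘ₗ h) ∘ₗ f) : (Fin r → A) →ₗ[A] _) v ∈ K := by
          intro v
          have h1 : f (σ (h (f v))) = π (h (f v)) := LinearMap.congr_fun hσ (h (f v))
          rw [LinearMap.mem_ker, LinearMap.sub_apply, map_sub, LinearMap.smul_apply,
            LinearMap.id_apply, map_smul, LinearMap.comp_apply, LinearMap.comp_apply, h1, hπ,
            sub_self]
        refine Or.inr ⟨LinearMap.codRestrict K _ hmem, LinearMap.ext fun k => Subtype.ext ?_⟩
        rw [LinearMap.comp_apply, LinearMap.codRestrict_apply, LinearMap.sub_apply,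
          LinearMap.smul_apply, LinearMap.id_apply, LinearMap.comp_apply, Submodule.coe_subtype,
          LinearMap.mem_ker.1 k.2, map_zero, sub_zero, LinearMap.smul_apply, LinearMap.id_apply,
          Submodule.coe_smul]
    have hspK : ∀ a ∈ T, Splits N K a := fun a ha => (hlift a ha).imp_right
      fun ⟨e, he⟩ => ⟨r, K.subtype, e, fun k => LinearMap.congr_fun he k⟩
    obtain ⟨hTor, hdK⟩ := ih K hK (le_trans (by exact_mod_cast Nat.le_succ p) hdep) hspK
    have h1K : (1 : ℕ∞) ≤ dep A (N ⊗[A] K) := by
      have := hdep.trans hdK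
      generalize dep A (N ⊗[A] K) = k at this ⊢
      induction k using ENat.recTopCoe with
      | top => exact le_top
      | coe k =>
        have : p + 1 ≤ k + p := by exact_mod_cast this
        exact_mod_cast (by omega : 1 ≤ k)
    -- `Tor₁` vanishes
    have hinj : Function.Injective (K.subtype.lTensor N) := by
      rw [← LinearMap.ker_eq_bot, Submodule.eq_bot_iff]
      intro x hx
      have hkill : ∀ a ∈ T, a • x = 0 := by
        intro a ha
        rcases hlift a ha with h | ⟨e, he⟩
        · have : ∀ w : N ⊗[A] K, a • w = 0 := fun w => by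
            induction w using TensorProduct.induction_on with
            | zero => exact smul_zero _
            | tmul n k => rw [TensorProduct.smul_tmul', h n, TensorProduct.zero_tmul]
            | add y z hy hz => rw [smul_add, hy, hz, add_zero]
          exact this x
        · have e' := LinearMap.congr_fun (congrArg (LinearMap.lTensor N) he) x
          rw [LinearMap.lTensor_comp, LinearMap.comp_apply, LinearMap.mem_ker.1 hx, map_zero,
            LinearMap.lTensor_smul, LinearMap.lTensor_id, LinearMap.smul_apply,
            LinearMap.id_apply] at e'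
          exact e'.symm
      obtain ⟨s, hs, hreg⟩ := Depth.exists_isSMulRegular_of_one_le_idealDepth
        (I := IsLocalRing.maximalIdeal A) h1K
      obtain ⟨n, hn⟩ := hT hs
      have h0 : s ^ n • x = 0 := by
        have hle : Ideal.span T ≤ LinearMap.ker (LinearMap.toSpanSingleton A (N ⊗[A] K) x) :=
          Ideal.span_le.2 fun a ha => by simpa using hkill a ha
        simpa using hle hn
      exact (hreg.pow n).right_eq_zero_of_smul h0
    refine ⟨fun j => ?_, ?_⟩
    · cases j with
      | zero => exact (TorOne.isZero_tor_one_iff N f hf).mpr hinj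
      | succ j =>
        haveI : Projective f.shortComplexKer.X₂ :=
          (IsProjective.iff_projective (Fin r → A)).mp inferInstance
        exact (EGA41Lib.TorShift.isZero_tor_succ_iff (ModuleCat.of A N)
          (LinearMap.shortExact_shortComplexKer hf) j).mpr (hTor j)
    · have hex : Function.Exact (K.subtype.lTensor N) (f.lTensor N) :=
        lTensor_exact N (LinearMap.exact_subtype_ker_map f) hf
      exact enat_arith (depth_le_tensor_flat N (Fin r → A)) hdK h1K
        (Depth.min_le_idealDepth_X₃ hinj (LinearMap.lTensor_surjective N hf) hex)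

/-- The Tor intersection number is a length when higher Tor vanishes. -/
theorem chi_eq_length_tensor (N M : Type u) [AddCommGroup N] [Module A N] [AddCommGroup M]
    [Module A M]
    (h : ∀ j : ℕ, IsZero (((Tor (ModuleCat.{u} A) (j + 1)).obj (ModuleCat.of A N)).obj (ModuleCat.of A M))) :
    IntMult.chi A N M = ((Module.length A (N ⊗[A] M)).toNat : ℤ) := by
  unfold IntMult.chi
  rw [finsum_eq_single _ 0]
  · haveI : PreservesFiniteColimits (tensorLeft (ModuleCat.of A N)) :=
      PreservesColimitsOfSize.preservesFiniteColimits _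
    have e := ((tensorLeft (ModuleCat.of A N)).leftDerivedZeroIsoSelf.app
      (ModuleCat.of A M)).toLinearEquiv
    rw [pow_zero, one_mul]
    exact congrArg (fun l : ℕ∞ => (l.toNat : ℤ)) e.length_eq
  · intro i hi
    obtain ⟨j, rfl⟩ : ∃ j, i = j + 1 := ⟨i - 1, by omega⟩
    haveI := ModuleCat.subsingleton_of_isZero (h j)
    rw [Module.length_eq_zero]
    simp

variable (P Q : Ideal A)

omit [IsLocalRing A] [IsNoetherianRing A] in
theorem length_quot_tensor_quot :
    Module.length A ((A ⧸ Q) ⊗[A] (A ⧸ P)) = Module.length A (A ⧸ (P ⊔ Q)) := by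
  refine (TensorProduct.quotTensorEquivQuotSMul (A ⧸ P) Q).length_eq.trans ?_
  have h : Q • (⊤ : Submodule A (A ⧸ P)) = Submodule.map (Submodule.mkQ P) (P ⊔ Q) := by
    rw [Submodule.map_sup, Submodule.mkQ_map_self, bot_sup_eq,
      ← Submodule.range_mkQ P, ← Submodule.map_top, ← Submodule.map_smul'', Ideal.smul_eq_mul,
      Ideal.mul_top]
  exact ((Submodule.quotEquivOfEq _ _ h).trans
    (Submodule.quotientQuotientEquivQuotient P (P ⊔ Q) le_sup_left)).length_eq

/-- Main lemma: the multiplicity is a length. -/
theorem chi_quot_eq_length (hPQ : IsLocalRing.maximalIdeal A ≤ (P ⊔ Q).radical) (p : ℕ)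
    (hpd : HasProjectiveDimensionLE (ModuleCat.of A (A ⧸ P)) p)
    (hdep : (p : ℕ∞) ≤ dep A (A ⧸ Q)) :
    IntMult.chi A (A ⧸ Q) (A ⧸ P) = ((Module.length A (A ⧸ (P ⊔ Q))).toNat : ℤ) := by
  rw [← length_quot_tensor_quot P Q]
  refine chi_eq_length_tensor _ _ (acyclic ((P : Set A) ∪ Q) ?_ p _ hpd hdep ?_).1
  · rwa [Ideal.span_union, Ideal.span_eq, Ideal.span_eq]
  · rintro a (ha | ha)
    · refine Or.inr ⟨0, 0, 0, fun m => ?_⟩
      obtain ⟨b, rfl⟩ := Submodule.Quotient.mk_surjective P m
      rw [LinearMap.zero_apply, ← Submodule.Quotient.mk_smul, eq_comm, Submodule.Quotient.mk_eq_zero]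
      exact P.mul_mem_right b ha
    · refine Or.inl fun m => ?_
      obtain ⟨b, rfl⟩ := Submodule.Quotient.mk_surjective Q m
      rw [← Submodule.Quotient.mk_smul, Submodule.Quotient.mk_eq_zero]
      exact Q.mul_mem_right b ha

end Groth.Agent.IntMult88
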