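import Groth.Prelude.Def_Cyc
import Groth.Agent.CycLib.ClosedPt
import Groth.Agent.CycLib.DivFun
import Groth.Agent.CycLib.MapLib
import Groth.Agent.CycLib.ProdClass

/-!
Mayer–Vietoris for cycles modulo rational equivalence along a closed covering by two pieces.
-/

set_option autoImplicit false
set_option linter.style.haveILetI false

universe u

open CategoryTheory CategoryTheory.Limits AlgebraicGeometry TopologicalSpace

namespace Groth.Agent.IntMult88.MV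

open Groth.Agent.CycLib

variable {Z X : Scheme.{u}}

theorem isDimFun_comp (i : Z ⟶ X) [IsClosedImmersion i] {δ : X → ℤ} (hd : Cyc.IsDimFun X δ) :
    Cyc.IsDimFun Z fun z => δ (i z) := by
  intro x y hxy hne
  obtain ⟨h1, h2⟩ := hd (i x) (i y) (hxy.map i.continuous) (i.isClosedEmbedding.injective.ne hne)
  refine ⟨h1, fun himm => h2 fun z hz1 hz2 => ?_⟩
  obtain ⟨w, rfl⟩ := hz1.mem_closed i.isClosedEmbedding.isClosed_range ⟨x, rfl⟩
  rcases himm w (i.isClosedEmbedding.isInducing.specializes_iff.1 hz1)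
    (i.isClosedEmbedding.isInducing.specializes_iff.1 hz2) with h | h
  · exact Or.inl (congrArg _ h)
  · exact Or.inr (congrArg _ h)

theorem divFun_closedImmersion [IsLocallyNoetherian X] {δ : X → ℤ} (hd : Cyc.IsDimFun X δ) (i : Z ⟶ X)
    [IsClosedImmersion i] (ζ : Z) {f : X.residueField (i ζ)} (hf : f ≠ 0) (z : Z) :
    Cyc.divFun (fun w => δ (i w)) ζ ((i.residueFieldMap ζ).hom f) z = Cyc.divFun δ (i ζ) f (i z) := by
  unfold Cyc.divFun
  by_cases h : ζ ⤳ z ∧ δ (i z) + 1 = δ (i ζ)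
  · rw [dif_pos h, dif_pos ⟨h.1.map i.continuous, h.2⟩]
    exact ordAt_closedImmersion hd i h.1 h.2 hf
  · rw [dif_neg h, dif_neg fun h' => h ⟨(i.isClosedEmbedding.isInducing.specializes_iff).1 h'.1, h'.2⟩]

/-- Push-forward along a closed immersion keeps the coefficients. -/
theorem map_apply (i : Z ⟶ X) [IsClosedImmersion i] (δZ : Z → ℤ) (δ : X → ℤ) (hδ : ∀ z, δZ z = δ (i z))
    (α : AlgebraicCycle Z ℤ) (z : Z) : AlgebraicCycle.map i δZ δ α (i z) = α z := by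
  classical
  rw [map_apply_eq_sum i δZ δ α (i z) {z}
    (fun x hx _ => Finset.mem_singleton.2 (i.isClosedEmbedding.injective hx)),
    Finset.filter_singleton, if_pos rfl, Finset.sum_singleton, AlgebraicCycle.mapCoeff,
    if_pos (hδ z), residueDegree_eq_one i z
      (residueFieldMap_bijective_closedImmersion i z).2]
  simp

theorem map_apply_of_notMem (i : Z ⟶ X) [IsClosedImmersion i] (δZ : Z → ℤ) (δ : X → ℤ)
    (α : AlgebraicCycle Z ℤ) {x : X} (hx : x ∉ Set.range i) : AlgebraicCycle.map i δZ δ α x = 0 := by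
  classical
  rw [map_apply_eq_sum i δZ δ α x ∅ (fun z hz _ => absurd ⟨z, hz⟩ hx)]
  simp

/-- The restriction of a cycle along an embedding. -/
theorem exists_comp (j : Z ⟶ X) [IsClosedImmersion j] (γ : AlgebraicCycle X ℤ) :
    ∃ β : AlgebraicCycle Z ℤ, ∀ z, β z = γ (j z) := by
  refine ⟨⟨fun z => γ (j z), Set.subset_univ _, fun z _ => ?_⟩, fun _ => rfl⟩
  obtain ⟨t, ht, hfin⟩ := γ.supportLocallyFiniteWithinDomain' (j z) trivial
  exact ⟨j ⁻¹' t, j.continuous.continuousAt ht,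
    (hfin.preimage j.isClosedEmbedding.injective.injOn).subset fun w hw => hw⟩

theorem ratEquivZero_neg [IsLocallyNoetherian X] {δ : X → ℤ} (hd : Cyc.IsDimFun X δ) {k : ℤ}
    {α : AlgebraicCycle X ℤ} (h : Cyc.RatEquivZero δ k α) : Cyc.RatEquivZero δ k (-α) := by
  obtain ⟨ι, ξ, f, hξ, hf, hlf, hsum⟩ := h
  refine ⟨ι, ξ, fun i => (f i)⁻¹, hξ, fun i => inv_ne_zero (hf i), hlf, fun x => ?_⟩
  have e : ∀ i, Cyc.divFun δ (ξ i) (f i)⁻¹ x = -Cyc.divFun δ (ξ i) (f i) x := fun i => by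
    have h := congrFun (divFun_mul hd (hf i) (inv_ne_zero (hf i))) x
    rw [mul_inv_cancel₀ (hf i), divFun_one hd, Pi.add_apply, Pi.zero_apply] at h
    linarith
  rw [Function.locallyFinsuppWithin.coe_neg, Pi.neg_apply, hsum, finsum_congr e, finsum_neg_distrib]

/-- The part of a principal family living on a closed subscheme. -/
theorem exists_piece (i : Z ⟶ X) [IsClosedImmersion i] [IsLocallyNoetherian X] {δ : X → ℤ}
    (hd : Cyc.IsDimFun X δ) {k : ℤ} {ι : Type u} (ξ : ι → X) (f : (a : ι) → X.residueField (ξ a))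
    (hξ : ∀ a, δ (ξ a) = k + 1) (hf : ∀ a, f a ≠ 0)
    (hlf : ∀ x : X, ∃ U : Set X, IsOpen U ∧ x ∈ U ∧ {a | (closure {ξ a} ∩ U).Nonempty}.Finite)
    (A : Set ι) (hA : ∀ a ∈ A, ξ a ∈ Set.range i) :
    ∃ D : AlgebraicCycle Z ℤ, Cyc.RatEquivZero (fun z => δ (i z)) k D ∧
      D ∈ Cyc.Zk Z (fun z => δ (i z)) k ∧
      ∀ x, AlgebraicCycle.map i (fun z => δ (i z)) δ D x = ∑ᶠ a ∈ A, Cyc.divFun δ (ξ a) (f a) x := by
  classical
  haveI : IsLocallyNoetherian Z := LocallyOfFiniteType.isLocallyNoetherian i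
  have hdZ := isDimFun_comp i hd
  let η : A → Z := fun a => (hA a.1 a.2).choose
  have hη : ∀ a : A, i (η a) = ξ a.1 := fun a => (hA a.1 a.2).choose_spec
  have hg : ∀ a : A, ∃ g : X.residueField (i (η a)), g ≠ 0 ∧
      Cyc.divFun δ (ξ a.1) (f a.1) = Cyc.divFun δ (i (η a)) g := fun a =>
    exists_divFun_congr (hη a).symm (hf a.1)
  choose g hg0 hgd using hg
  have hg1 : ∀ a, (i.residueFieldMap (η a)).hom (g a) ≠ 0 := fun a => (map_ne_zero _).mpr (hg0 a)
  have hlfZ : ∀ z : Z, ∃ U : Set Z, IsOpen U ∧ z ∈ U ∧ {a : A | (closure {η a} ∩ U).Nonempty}.Finite := by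
    intro z
    obtain ⟨U, hU, hzU, hfin⟩ := hlf (i z)
    refine ⟨i ⁻¹' U, hU.preimage i.continuous, hzU,
      (hfin.preimage Subtype.val_injective.injOn).subset ?_⟩
    rintro a ⟨w, hw1, hw2⟩
    refine ⟨i w, ?_, hw2⟩
    rw [← hη a]
    exact specializes_iff_mem_closure.1 ((specializes_iff_mem_closure.2 hw1).map i.continuous)
  obtain ⟨D, hD⟩ := exists_cycle_finsum_divFun hdZ η (fun a => (i.residueFieldMap (η a)).hom (g a)) hg1 hlfZ
  have hk : ∀ a : A, δ (i (η a)) = k + 1 := fun a => by rw [hη a]; exact hξ a.1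
  refine ⟨D, ⟨A, η, _, hk, hg1, hlfZ, hD⟩, fun z hz => ?_, fun x => ?_⟩
  · rw [hD]
    refine finsum_eq_zero_of_forall_eq_zero fun a => dif_neg fun hh => hz ?_
    have h1 : δ (i z) + 1 = δ (i (η a)) := hh.2
    have h2 := hk a
    show δ (i z) = k
    omega
  · by_cases hx : x ∈ Set.range i
    · obtain ⟨z, rfl⟩ := hx
      rw [map_apply i _ δ (fun _ => rfl) D z, hD,
        ← finsum_set_coe_eq_finsum_mem (f := fun a => Cyc.divFun δ (ξ a) (f a) (i z))]
      exact finsum_congr fun a => by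
        rw [divFun_closedImmersion hd i (η a) (hg0 a) z, hgd a]
    · rw [map_apply_of_notMem i _ δ D hx]
      symm
      refine finsum_mem_eq_zero_of_forall_eq_zero fun a ha => ?_
      exact dif_neg fun hh : ξ a ⤳ x ∧ _ =>
        hx (hh.1.mem_closed i.isClosedEmbedding.isClosed_range (hA a ha))

/-- Mayer–Vietoris: exactness in the middle. -/
theorem mayerVietoris [IsLocallyNoetherian X] {δ : X → ℤ} (hd : Cyc.IsDimFun X δ) {X₁ X₂ Y : Scheme.{u}}
    (i₁ : X₁ ⟶ X) (i₂ : X₂ ⟶ X) [IsClosedImmersion i₁] [IsClosedImmersion i₂]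
    (hcov : Set.range i₁ ∪ Set.range i₂ = Set.univ)
    (j₁ : Y ⟶ X₁) (j₂ : Y ⟶ X₂) [IsClosedImmersion j₁] [IsClosedImmersion j₂]
    (hcomm : j₁ ≫ i₁ = j₂ ≫ i₂) (hY : Set.range i₁ ∩ Set.range i₂ ⊆ Set.range (j₁ ≫ i₁))
    (k : ℤ) (α₁ : AlgebraicCycle X₁ ℤ) (α₂ : AlgebraicCycle X₂ ℤ)
    (h₁ : α₁ ∈ Cyc.Zk X₁ (fun x => δ (i₁ x)) k)
    (h : Cyc.RatEquiv δ k (AlgebraicCycle.map i₁ (fun x => δ (i₁ x)) δ α₁)
      (AlgebraicCycle.map i₂ (fun x => δ (i₂ x)) δ α₂)) :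
    ∃ β : AlgebraicCycle Y ℤ, β ∈ Cyc.Zk Y (fun y => δ (i₁ (j₁ y))) k ∧
      Cyc.RatEquiv (fun x => δ (i₁ x)) k α₁
        (AlgebraicCycle.map j₁ (fun y => δ (i₁ (j₁ y))) (fun x => δ (i₁ x)) β) ∧
      Cyc.RatEquiv (fun x => δ (i₂ x)) k α₂
        (AlgebraicCycle.map j₂ (fun y => δ (i₁ (j₁ y))) (fun x => δ (i₂ x)) β) := by
  classical
  haveI : IsLocallyNoetherian X₂ := LocallyOfFiniteType.isLocallyNoetherian i₂
  obtain ⟨ι, ξ, f, hξ, hf, hlf, hsum⟩ := h
  let A : Set ι := {a | ξ a ∈ Set.range i₁}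
  obtain ⟨D₁, hD₁, hD₁k, hm₁⟩ := exists_piece i₁ hd ξ f hξ hf hlf A fun a ha => ha
  obtain ⟨D₂, hD₂, -, hm₂⟩ := exists_piece i₂ hd ξ f hξ hf hlf Aᶜ fun a ha =>
    ((Set.eq_univ_iff_forall.1 hcov (ξ a)).resolve_left ha)
  have hj : ∀ y, i₁ (j₁ y) = i₂ (j₂ y) := fun y => by
    rw [← Scheme.Hom.comp_apply, hcomm, Scheme.Hom.comp_apply]
  -- the two sides agree on `X`
  have hside : ∀ x, AlgebraicCycle.map i₁ (fun z => δ (i₁ z)) δ α₁ x -
      AlgebraicCycle.map i₁ (fun z => δ (i₁ z)) δ D₁ x =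
      AlgebraicCycle.map i₂ (fun z => δ (i₂ z)) δ α₂ x +
      AlgebraicCycle.map i₂ (fun z => δ (i₂ z)) δ D₂ x := by
    intro x
    have hs := hsum x
    rw [Function.locallyFinsuppWithin.coe_sub, Pi.sub_apply] at hs
    have hfin : (Function.support fun a => Cyc.divFun δ (ξ a) (f a) x).Finite := by
      obtain ⟨U, -, hxU, hUfin⟩ := hlf x
      refine hUfin.subset fun a ha => ⟨x, specializes_iff_mem_closure.1 ?_, hxU⟩
      by_contra hn
      exact ha (dif_neg fun hh => hn hh.1)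
    have hsplit : ∑ᶠ a, Cyc.divFun δ (ξ a) (f a) x =
        (∑ᶠ a ∈ A, Cyc.divFun δ (ξ a) (f a) x) + ∑ᶠ a ∈ Aᶜ, Cyc.divFun δ (ξ a) (f a) x := by
      rw [← finsum_mem_union' disjoint_compl_right (hfin.subset Set.inter_subset_right)
        (hfin.subset Set.inter_subset_right), Set.union_compl_self, finsum_mem_univ]
    rw [hm₁, hm₂]
    linarith
  obtain ⟨β, hβ⟩ := exists_comp j₁ (α₁ - D₁)
  have hp₁ : AlgebraicCycle.map j₁ (fun y => δ (i₁ (j₁ y))) (fun x => δ (i₁ x)) β = α₁ - D₁ := by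
    refine Function.locallyFinsuppWithin.coe_injective (funext fun x => ?_)
    show AlgebraicCycle.map j₁ (fun y => δ (i₁ (j₁ y))) (fun x => δ (i₁ x)) β x = (α₁ - D₁) x
    by_cases hx : x ∈ Set.range j₁
    · obtain ⟨y, rfl⟩ := hx
      exact (map_apply j₁ (fun y => δ (i₁ (j₁ y))) (fun x => δ (i₁ x)) (fun _ => rfl) β y).trans (hβ y)
    · refine (map_apply_of_notMem j₁ _ _ β hx).trans ?_
      have hx2 : i₁ x ∉ Set.range i₂ := fun h2 => hx <| by
        obtain ⟨y, hy⟩ := hY ⟨⟨x, rfl⟩, h2⟩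
        exact ⟨y, i₁.isClosedEmbedding.injective hy⟩
      have hs := hside (i₁ x)
      rw [map_apply i₁ _ δ (fun _ => rfl), map_apply i₁ _ δ (fun _ => rfl),
        map_apply_of_notMem i₂ _ δ α₂ hx2, map_apply_of_notMem i₂ _ δ D₂ hx2, add_zero] at hs
      rw [Function.locallyFinsuppWithin.coe_sub, Pi.sub_apply]
      exact hs.symm
  have hp₂ : AlgebraicCycle.map j₂ (fun y => δ (i₁ (j₁ y))) (fun x => δ (i₂ x)) β = α₂ + D₂ := by
    refine Function.locallyFinsuppWithin.coe_injective (funext fun x => ?_)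
    show AlgebraicCycle.map j₂ (fun y => δ (i₁ (j₁ y))) (fun x => δ (i₂ x)) β x = (α₂ + D₂) x
    by_cases hx : x ∈ Set.range j₂
    · obtain ⟨y, rfl⟩ := hx
      refine (map_apply j₂ _ _ (fun y => congrArg δ (hj y)) β y).trans ?_
      have hs := hside (i₂ (j₂ y))
      rw [map_apply i₂ _ δ (fun _ => rfl), map_apply i₂ _ δ (fun _ => rfl), ← hj y,
        map_apply i₁ _ δ (fun _ => rfl), map_apply i₁ _ δ (fun _ => rfl)] at hs
      rw [hβ, Function.locallyFinsuppWithin.coe_add, Pi.add_apply, Function.locallyFinsuppWithin.coe_sub,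
        Pi.sub_apply]
      exact hs
    · refine (map_apply_of_notMem j₂ _ _ β hx).trans ?_
      have hx1 : i₂ x ∉ Set.range i₁ := fun h1 => hx <| by
        obtain ⟨y, hy⟩ := hY ⟨h1, ⟨x, rfl⟩⟩
        exact ⟨y, i₂.isClosedEmbedding.injective ((hj y).symm.trans hy)⟩
      have hs := hside (i₂ x)
      rw [map_apply i₂ _ δ (fun _ => rfl), map_apply i₂ _ δ (fun _ => rfl),
        map_apply_of_notMem i₁ _ δ α₁ hx1, map_apply_of_notMem i₁ _ δ D₁ hx1, sub_zero] at hs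
      rw [Function.locallyFinsuppWithin.coe_add, Pi.add_apply]
      exact hs
  refine ⟨β, fun y hy => ?_, ?_, ?_⟩
  · rw [hβ, Function.locallyFinsuppWithin.coe_sub, Pi.sub_apply, h₁ _ hy, hD₁k _ hy, sub_zero]
  · rw [Cyc.RatEquiv, hp₁, sub_sub_cancel]
    exact hD₁
  · rw [Cyc.RatEquiv, hp₂, sub_add_cancel_left]
    exact ratEquivZero_neg (isDimFun_comp i₂ hd) hD₂

end Groth.Agent.IntMult88.MV
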