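import Groth.Prelude.Def_Cyc
import Groth.Agent.CycLib.P1Cut
import Groth.Agent.S9684
import Groth.Agent.ProjProper.Basic
import Groth.Agent.AlgSpD.RelDim

/-!
The divisor of a rational function on a closure of a point as the difference of the fibres over `0`
and `∞` of the closure of its graph.
-/

set_option autoImplicit false
set_option linter.style.haveILetI false
set_option maxHeartbeats 1000000

universe u

open CategoryTheory AlgebraicGeometry IsLocalRing Limits TopologicalSpace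

namespace Groth.Agent.IntMult88.P1Graph

open Groth.Agent.CycLib

variable {X : Scheme.{u}}

theorem appLE_congr_hom {S Y : Scheme.{u}} {f g : S ⟶ Y} (h : f = g) (D : Y.Opens) (V : S.Opens)
    (e : V ≤ f ⁻¹ᵁ D) (e' : V ≤ g ⁻¹ᵁ D) : f.appLE D V e = g.appLE D V e' := by
  subst h; rfl

theorem exists_delta (hX : IsLocallyNoetherian X) (δ : X → ℤ) :
    ∃ δP : ↥(CohB1.ProjSpaceOver 1 X) → ℤ, Cyc.DeltaCompat (CohB1.ProjSpaceOver.toBase 1 X) δP δ := by
  haveI : IsProper (CohB1.ProjSpaceOver.toBase 1 X) := ProjProper.Basic.isProper_toBase 1 X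
  choose n m hm hh using fun x : CohB1.ProjSpaceOver 1 X =>
    AlgSpD.exists_fibre_dims (CohB1.ProjSpaceOver.toBase 1 X) x
  exact ⟨fun x => δ (CohB1.ProjSpaceOver.toBase 1 X x) + (m x : ℤ), fun x => ⟨m x, hm x, rfl⟩⟩

/-- Only the generic point of an integral scheme is associated. -/
theorem eq_genericPoint_of_isAssociated (W : Scheme.{u}) [IsIntegral W] (z : W)
    (hz : IsAssociatedPrime (maximalIdeal (W.presheaf.stalk z)) (W.presheaf.stalk z)) : z = genericPoint W := by
  obtain ⟨x, hx⟩ := hz.eq_radical_colon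
  have hx0 : x ≠ 0 := by
    rintro rfl
    refine hz.toIsPrime.ne_top (hx.trans ?_)
    rw [Ideal.radical_eq_top, Ideal.eq_top_iff_one, Submodule.mem_colon_singleton, smul_zero]
    exact zero_mem _
  have hm : maximalIdeal (W.presheaf.stalk z) = ⊥ := by
    rw [hx, show (⊥ : Submodule (W.presheaf.stalk z) (W.presheaf.stalk z)).colon {x} = ⊥ from ?_]
    · exact (Ideal.radical_bot_of_isReduced).le.antisymm bot_le
    · refine eq_bot_iff.2 fun r hr => ?_
      rw [Submodule.mem_colon_singleton, Submodule.mem_bot, smul_eq_mul, mul_eq_zero] at hr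
      exact (Submodule.mem_bot _).2 (hr.resolve_right hx0)
  have hη : genericPoint W ∈ Set.range (W.fromSpecStalk z) := by
    rw [Scheme.range_fromSpecStalk]
    exact genericPoint_specializes z
  obtain ⟨p, hp⟩ := hη
  have hpc : p = closedPoint (W.presheaf.stalk z) := PrimeSpectrum.ext <| by
    refine le_antisymm (le_maximalIdeal p.isPrime.ne_top) ?_
    show maximalIdeal (W.presheaf.stalk z) ≤ p.asIdeal
    rw [hm]
    exact bot_le
  rw [hpc, Scheme.fromSpecStalk_closedPoint] at hp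
  exact hp

theorem topLen_generic (W : Scheme.{u}) [IsIntegral W] :
    Module.length (W.presheaf.stalk (genericPoint W)) (W.presheaf.stalk (genericPoint W)) = 1 := by
  letI : Field (W.presheaf.stalk (genericPoint W)) := inferInstanceAs (Field W.functionField)
  exact Module.length_eq_one _ _

/-- The fibres over `0` and `∞` of a birational piece of the projective line. -/
theorem fibres_eq_divFun (δ : X → ℤ) (hX : Cyc.IsSetup X δ) (δP : ↥(CohB1.ProjSpaceOver 1 X) → ℤ)
    (hP : Cyc.DeltaCompat (CohB1.ProjSpaceOver.toBase 1 X) δP δ) (k : ℤ) {W : Scheme.{u}} [IsIntegral W]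
    (ι : W ⟶ CohB1.ProjSpaceOver 1 X) [IsClosedImmersion ι]
    (w : ↥(CohB1.ProjSpaceOver 1 X)) (hwι : ι (genericPoint W) = w)
    (hW : δP w = k + 1) (h0 : w ∈ chartOpen X 0) (h1 : w ∈ chartOpen X 1)
    (hsurj : Function.Surjective ((CohB1.ProjSpaceOver.toBase 1 X).residueFieldMap w).hom)
    (f : X.residueField (CohB1.ProjSpaceOver.toBase 1 X w))
    (hf : ((CohB1.ProjSpaceOver.toBase 1 X).residueFieldMap w).hom f = tVal X 0 1 w h0) (x : X) :
    Cyc.divFun δ (CohB1.ProjSpaceOver.toBase 1 X w) f x =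
      Cyc.subschemeFun δ k (pullback.snd ι (P1.sect X 0)) x -
        Cyc.subschemeFun δ k (pullback.snd ι (P1.sect X 1)) x := by
  classical
  haveI := hX.1
  haveI : IsProper (CohB1.ProjSpaceOver.toBase 1 X) := ProjProper.Basic.isProper_toBase 1 X
  haveI : IsLocallyNoetherian (CohB1.ProjSpaceOver 1 X) :=
    LocallyOfFiniteType.isLocallyNoetherian (CohB1.ProjSpaceOver.toBase 1 X)
  haveI : IsLocallyNoetherian W := LocallyOfFiniteType.isLocallyNoetherian ι
  have hdP : Cyc.IsDimFun (CohB1.ProjSpaceOver 1 X) δP :=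
    isDimFun_of_deltaCompat (CohB1.ProjSpaceOver.toBase 1 X) hX.2.1 hX.2.2 hP
  have hdZ : Cyc.IsDimFun W fun z => δP (ι z) :=
    isDimFun_of_deltaCompat (ι ≫ CohB1.ProjSpaceOver.toBase 1 X) hX.2.1 hX.2.2
      (deltaCompat_comp (deltaCompat_preimmersion ι δP) hP)
  have hlt : ∀ z : W, z ≠ genericPoint W → δP (ι z) < k + 1 := fun z hz => by
    have h := (hdP _ _ ((genericPoint_specializes z).map ι.continuous)
      fun e => hz (ι.isClosedEmbedding.injective e.symm)).1
    rw [hwι] at h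
    omega
  have hZ : ∀ z : W, δP (ι z) ≤ k + 1 := fun z => by
    by_cases h : z = genericPoint W
    · rw [h, hwι, hW]
    · exact (hlt z h).le
  have hsec : w ∉ Set.range ⇑(P1.sect X 0) ∪ Set.range ⇑(P1.sect X 1) := by
    rintro (h | h)
    · exact ((mem_range_sect_iff X 0 1 (by decide) _).1 h).2 h1
    · exact ((mem_range_sect_iff X 1 0 (by decide) _).1 h).2 h0
  have hemb : ∀ z : W, IsAssociatedPrime (maximalIdeal (W.presheaf.stalk z)) (W.presheaf.stalk z) →
      ι z ∉ Set.range ⇑(P1.sect X 0) ∪ Set.range ⇑(P1.sect X 1) ∨ δP (ι z) < k := fun z hz =>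
    Or.inl (by rw [eq_genericPoint_of_isAssociated W z hz, hwι]; exact hsec)
  let ζ₀ : TopPt δP k ι := ⟨genericPoint W, by rw [hwι]; exact hW⟩
  letI : Unique (TopPt δP k ι) := ⟨⟨ζ₀⟩, fun ζ => Subtype.ext <| by
    by_contra hne
    exact (hlt ζ.1 hne).ne ζ.2⟩
  have hi : ∀ (i : Fin (1 + 1)) (ζ : TopPt δP k ι), ι ζ.1 ∈ chartOpen X i := fun i ζ => by
    rw [Unique.eq_default ζ]
    show ι (genericPoint W) ∈ chartOpen X i
    rw [hwι]
    fin_cases i
    · exact h0
    · exact h1
  have hlen : (topLen δP k ι ζ₀ : ℤ) = 1 := by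
    show (((Module.length (W.presheaf.stalk (genericPoint W)) (W.presheaf.stalk (genericPoint W))).toNat : ℕ) : ℤ) = 1
    rw [topLen_generic]; rfl
  have hgw := hwι
  subst hgw
  let t := tVal X 0 1 (ι (genericPoint W)) h0
  have ht : t = tVal X 0 1 (ι (genericPoint W)) h0 := rfl
  have htne : t ≠ 0 := tVal_ne_zero 0 1 (ι (genericPoint W)) h0 h1
  obtain ⟨C, hC⟩ := exists_cycle_finsum_divFun hdP (fun _ : PUnit.{u + 1} => ι (genericPoint W)) (fun _ => t)
    (fun _ => htne) (fun p => ⟨Set.univ, isOpen_univ, trivial, Set.toFinite _⟩)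
  have hC' : ∀ p, C p = Cyc.divFun δP (ι (genericPoint W)) t p := fun p => (hC p).trans (finsum_unique _)
  have hkey : ∀ (i j : Fin (1 + 1)) (hij : i ≠ j) (hwi : (ι (genericPoint W)) ∈ chartOpen X i) (y : X),
      Cyc.divFun δP (ι (genericPoint W)) (tVal X i j (ι (genericPoint W)) hwi) (P1.sect X i y) =
        Cyc.subschemeFun δ k (pullback.snd ι (P1.sect X i)) y := fun i j hij hwi y => by
    rw [← finsum_divFun_eq_subschemeFun ι hP hdP hdZ hZ hemb i j hij (hi i) (hi j) y, finsum_unique]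
    show _ = (topLen δP k ι ζ₀ : ℤ) * Cyc.divFun δP (ι (genericPoint W)) (tVal X i j (ι (genericPoint W)) hwi) (P1.sect X i y)
    rw [hlen, one_mul]
  have hs0 : ∀ y, C (P1.sect X 0 y) = Cyc.subschemeFun δ k (pullback.snd ι (P1.sect X 0)) y := fun y => by
    rw [hC']; exact hkey 0 1 (by decide) h0 y
  have hs1 : ∀ y, C (P1.sect X 1 y) = -Cyc.subschemeFun δ k (pullback.snd ι (P1.sect X 1)) y := fun y => by
    rw [hC', ← hkey 1 0 (by decide) h1 y, ht,
      eq_inv_of_mul_eq_one_left (tVal_mul 0 1 (ι (genericPoint W)) h0 h1),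
      divFun_inv hdP (tVal_ne_zero 1 0 (ι (genericPoint W)) h1 h0)]
  have hsupp : ∀ p, C p ≠ 0 → p ∈ Set.range ⇑(P1.sect X 0) ∪ Set.range ⇑(P1.sect X 1) := fun p hp => by
    by_contra hn
    refine hp ((hC' p).trans ?_)
    rw [Cyc.divFun]
    split_ifs with h
    · rw [ht, tVal_eq_specMap 0 1 h.1 (mem_chartOpen_of_notMem_range p hn 0),
        ordAt_specMap hdP h.1 h.2 ?_, LenLib.ordZ_of_isUnit ?_]
      · exact ((isUnit_tGerm_iff X 0 1 p _).2 (mem_chartOpen_of_notMem_range p hn 1)).map _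
      · exact (((isUnit_tGerm_iff X 0 1 p _).2 (mem_chartOpen_of_notMem_range p hn 1)).map _).ne_zero
    · rfl
  have hco : ∀ i y, AlgebraicCycle.mapCoeff (CohB1.ProjSpaceOver.toBase 1 X) δP δ (P1.sect X i y) = 1 :=
    fun i y => by
      unfold AlgebraicCycle.mapCoeff
      rw [if_pos, residueDegree_toBase_sect]
      show δP _ = δ (CohB1.ProjSpaceOver.toBase 1 X _)
      rw [toBase_sect, delta_sect hP]
  have hval : AlgebraicCycle.map (CohB1.ProjSpaceOver.toBase 1 X) δP δ C x =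
      Cyc.subschemeFun δ k (pullback.snd ι (P1.sect X 0)) x -
        Cyc.subschemeFun δ k (pullback.snd ι (P1.sect X 1)) x := by
    rw [map_apply_eq_sum _ δP δ C x {P1.sect X 0 x, P1.sect X 1 x} fun p hp hne => ?_,
      Finset.filter_true_of_mem fun p hp => ?_, Finset.sum_pair (sect_ne x x), hs0, hs1, hco, hco]
    · simp [sub_eq_add_neg]
    · rcases Finset.mem_insert.1 hp with rfl | hp
      · exact toBase_sect 0 x
      · rw [Finset.mem_singleton.1 hp]; exact toBase_sect 1 x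
    · rcases hsupp p hne with ⟨y, rfl⟩ | ⟨y, rfl⟩
      · rw [toBase_sect] at hp; simp [hp]
      · rw [toBase_sect] at hp; simp [hp]
  have hδw : δP (ι (genericPoint W)) = δ (CohB1.ProjSpaceOver.toBase 1 X (ι (genericPoint W))) := delta_eq_of_surjective _ hP (ι (genericPoint W)) hsurj
  have hnorm : Cyc.normGen (CohB1.ProjSpaceOver.toBase 1 X) (ι (genericPoint W)) t = f := by
    rw [ht, ← hf]
    unfold Cyc.normGen
    letI := ((CohB1.ProjSpaceOver.toBase 1 X).residueFieldMap (ι (genericPoint W))).hom.toAlgebra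
    show Algebra.norm _ (algebraMap (X.residueField (CohB1.ProjSpaceOver.toBase 1 X (ι (genericPoint W))))
      ((CohB1.ProjSpaceOver 1 X).residueField (ι (genericPoint W))) f) = f
    rw [Algebra.norm_algebraMap, show Module.finrank (X.residueField (CohB1.ProjSpaceOver.toBase 1 X (ι (genericPoint W))))
      ((CohB1.ProjSpaceOver 1 X).residueField (ι (genericPoint W))) = 1 from residueDegree_eq_one _ (ι (genericPoint W)) hsurj, pow_one]
  rw [← hval, map_divFun_ite _ hdP hX.2.2 hP (ι (genericPoint W)) htne C (funext hC') x, if_pos hδw.symm, hnorm]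

/-- The point of the projective line given by a function on a scheme over `X`. -/
theorem exists_point {S : Scheme.{u}}
    (φ : HomogeneousLocalization.Away P1.grading.{u} (P1.T 0) →+* Γ(S, ⊤))
    (g : S ⟶ CohB1.ProjSpaceOver 1 X)
    (hg₁ : g ≫ toP1Z X = S.toSpecΓ ≫ Spec.map (CommRingCat.ofHom φ) ≫
      Proj.awayι P1.grading.{u} (P1.T 0) (P1.X_mem 0) one_pos)
    (s : S) : ∃ hm : g s ∈ chartOpen X 0,
      (g.residueFieldMap s).hom (tVal X 0 1 (g s) hm) = S.evaluation ⊤ s trivial (φ (ratio 0 1)) := by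
  set j := Proj.awayι P1.grading.{u} (P1.T 0) (P1.X_mem 0) one_pos with hj
  set G := S.toSpecΓ ≫ Spec.map (CommRingCat.ofHom φ) with hG
  have hgj : g ≫ toP1Z X = G ≫ j := by rw [hg₁, hG, Category.assoc]
  set D := Proj.basicOpen P1.grading.{u} (P1.T 0) with hD
  have e : (⊤ : (Spec (CommRingCat.of (HomogeneousLocalization.Away P1.grading.{u} (P1.T 0)))).Opens) ≤
      j ⁻¹ᵁ D := fun q _ => by
    show j q ∈ D
    rw [hD, ← Proj.opensRange_awayι P1.grading.{u} (P1.T 0) (P1.X_mem 0) one_pos]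
    exact ⟨q, rfl⟩
  have hmem : (⊤ : S.Opens) ≤ g ⁻¹ᵁ chartOpen X 0 := fun q _ => by
    show (g ≫ toP1Z X) q ∈ D
    rw [hgj]
    exact e (show G q ∈ (⊤ : Opens _) from trivial)
  refine ⟨hmem (show s ∈ (⊤ : S.Opens) from trivial), ?_⟩
  have h1 : (g ≫ toP1Z X).appLE D ⊤ hmem (cz 0 1) = φ (ratio 0 1) := by
    have e2 : (⊤ : S.Opens) ≤ (G ≫ j) ⁻¹ᵁ D := fun q _ => e (show G q ∈ (⊤ : Opens _) from trivial)
    rw [appLE_congr_hom hgj D ⊤ hmem e2]
    rw [← Scheme.Hom.appLE_comp_appLE G j D ⊤ ⊤ e le_top, CommRingCat.comp_apply,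
      show cz.{u} 0 1 = Proj.awayToSection P1.grading.{u} (P1.T 0) (ratio 0 1) from rfl]
    rw [show j.appLE D ⊤ e (Proj.awayToSection P1.grading.{u} (P1.T 0) (ratio 0 1)) =
      (Scheme.ΓSpecIso _).inv (ratio 0 1) from
      congr($(appLE_awayToSection P1.grading.{u} (P1.X_mem 0) e) (ratio 0 1))]
    have h3 : G.appLE ⊤ ⊤ le_top = G.appTop := Scheme.Hom.appLE_eq_app G
    rw [h3, hG, Scheme.Hom.comp_appTop, CommRingCat.comp_apply,
      show (Spec.map (CommRingCat.ofHom φ)).appTop ((Scheme.ΓSpecIso _).inv (ratio 0 1)) =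
        (Scheme.ΓSpecIso _).inv (φ (ratio 0 1)) from
        congr($((Scheme.ΓSpecIso_inv_naturality (CommRingCat.ofHom φ)).symm) (ratio 0 1)),
      Scheme.toSpecΓ_appTop]
    exact Iso.inv_hom_id_apply _ _
  rw [← h1]
  unfold tVal
  refine (Scheme.evaluation_naturality_apply g s (V := chartOpen X 0) _ (tSec X 0 1)).trans ?_
  show S.residue s (S.presheaf.germ _ s _ _) = S.residue s (S.presheaf.germ ⊤ s _ _)
  congr 1
  exact (S.presheaf.germ_res_apply (homOfLE hmem) s trivial _).symm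

theorem evalMap_ratio (B : Type u) [CommRing B] (b : B) : P1.chartMap 0 B b (ratio 0 1) = b := by
  simp only [P1.chartMap, ratio, RingHom.comp_apply, HomogeneousLocalization.algebraMap_apply,
    HomogeneousLocalization.Away.val_mk, pow_one, Localization.mk_eq_mk']
  set L := IsLocalization.Away.lift (S := Localization.Away (P1.T.{u} 0)) (P1.T.{u} 0)
    (g := MvPolynomial.eval₂Hom ((Int.castRingHom B).comp ULift.ringEquiv.toRingHom)
      (Function.update (fun _ => b) 0 1)) (by simp) with hL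
  have h := congrArg L (IsLocalization.mk'_spec (Localization.Away (P1.T.{u} 0)) (P1.T.{u} 1)
    (⟨(P1.T 0) ^ 1, 1, rfl⟩ : Submonoid.powers (P1.T.{u} 0)))
  rw [map_mul, IsLocalization.Away.lift_eq, IsLocalization.Away.lift_eq] at h
  simpa using h

/-- The divisor of a function on the closure of a point, through its graph. -/
theorem fibres_of_point (δ : X → ℤ) (hX : Cyc.IsSetup X δ) (δP : ↥(CohB1.ProjSpaceOver 1 X) → ℤ)
    (hP : Cyc.DeltaCompat (CohB1.ProjSpaceOver.toBase 1 X) δP δ) (k : ℤ) {S : Scheme.{u}} (a : S ⟶ X)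
    (φ : HomogeneousLocalization.Away P1.grading.{u} (P1.T 0) →+* Γ(S, ⊤))
    (g : S ⟶ CohB1.ProjSpaceOver 1 X) (hg₀ : g ≫ CohB1.ProjSpaceOver.toBase 1 X = a)
    (hg₁ : g ≫ toP1Z X = S.toSpecΓ ≫ Spec.map (CommRingCat.ofHom φ) ≫
      Proj.awayι P1.grading.{u} (P1.T 0) (P1.X_mem 0) one_pos)
    (s : S) (hs : Function.Surjective (a.residueFieldMap s).hom) (hk : δ (a s) = k + 1)
    (f : X.residueField (a s)) (hf : f ≠ 0)
    (hfs : (a.residueFieldMap s).hom f = S.evaluation ⊤ s trivial (φ (ratio 0 1))) :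
    (δP (g s) = k + 1 ∧ g s ∈ chartOpen X 0 ∧ g s ∈ chartOpen X 1) ∧
      ∀ (W : Scheme.{u}) [IsIntegral W] (ι : W ⟶ CohB1.ProjSpaceOver 1 X) [IsClosedImmersion ι],
        ι (genericPoint W) = g s → ∀ x : X, Cyc.divFun δ (a s) f x =
          Cyc.subschemeFun δ k (pullback.snd ι (P1.sect X 0)) x -
            Cyc.subschemeFun δ k (pullback.snd ι (P1.sect X 1)) x := by
  subst hg₀
  obtain ⟨hm, hval⟩ := exists_point φ g hg₁ s
  have hcomp : ∀ c, ((g ≫ CohB1.ProjSpaceOver.toBase 1 X).residueFieldMap s).hom c =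
      (g.residueFieldMap s).hom (((CohB1.ProjSpaceOver.toBase 1 X).residueFieldMap (g s)).hom c) := fun c => by
    rw [Scheme.residueFieldMap_comp]; rfl
  have hsurj : Function.Surjective ((CohB1.ProjSpaceOver.toBase 1 X).residueFieldMap (g s)).hom := fun y => by
    obtain ⟨c, hc⟩ := hs ((g.residueFieldMap s).hom y)
    exact ⟨c, (g.residueFieldMap s).hom.injective ((hcomp c).symm.trans hc)⟩
  have hft : ((CohB1.ProjSpaceOver.toBase 1 X).residueFieldMap (g s)).hom f = tVal X 0 1 (g s) hm :=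
    (g.residueFieldMap s).hom.injective (((hcomp f).symm.trans hfs).trans hval.symm)
  have ht0 : tVal X 0 1 (g s) hm ≠ 0 := by
    rw [← hft]; exact (map_ne_zero _).2 hf
  have hm1 : g s ∈ chartOpen X 1 := by
    rw [← isUnit_tGerm_iff X 0 1 (g s) hm]
    exact (IsLocalRing.residue_ne_zero_iff_isUnit _).1 ((tVal_eq 0 1 (g s) hm).symm.trans_ne ht0)
  have hδ : δP (g s) = k + 1 := (delta_eq_of_surjective _ hP (g s) hsurj).trans hk
  refine ⟨⟨hδ, hm, hm1⟩, fun W _ ι _ hι x => ?_⟩
  have hgen : ∀ (p : ↥(CohB1.ProjSpaceOver 1 X)) (_ : δP p = k + 1) (h0 : p ∈ chartOpen X 0) (_ : p ∈ chartOpen X 1)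
      (_ : Function.Surjective ((CohB1.ProjSpaceOver.toBase 1 X).residueFieldMap p).hom)
      (f' : X.residueField (CohB1.ProjSpaceOver.toBase 1 X p)),
      ((CohB1.ProjSpaceOver.toBase 1 X).residueFieldMap p).hom f' = tVal X 0 1 p h0 →
      ι (genericPoint W) = p →
      Cyc.divFun δ (CohB1.ProjSpaceOver.toBase 1 X p) f' x =
          Cyc.subschemeFun δ k (pullback.snd ι (P1.sect X 0)) x -
            Cyc.subschemeFun δ k (pullback.snd ι (P1.sect X 1)) x := by
    intro p hp h0 h1 hsu f' hf' hpe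
    subst hpe
    exact fibres_eq_divFun δ hX δP hP k ι _ rfl hp h0 h1 hsu f' hf' x
  exact hgen (g s) hδ hm hm1 hsurj f hft hι

end Groth.Agent.IntMult88.P1Graph
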