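import Groth.Agent.S3405
import Mathlib.Analysis.Polynomial.Basic
import Mathlib.RingTheory.Nakayama

/-!
# Positivity of Samuel multiplicities in the top degree
-/

set_option autoImplicit false
set_option linter.style.haveILetI false

universe u

open Filter Polynomial

namespace Groth.Agent.IntMult88

variable {A : Type u} [CommRing A]

theorem length_quot_smul (P Q : Ideal A) :
    Module.length A ((A ⧸ Q) ⧸ (P • (⊤ : Submodule A (A ⧸ Q)))) =
      Module.length A (A ⧸ (Q ⊔ P)) := by
  have h : P • (⊤ : Submodule A (A ⧸ Q)) = Submodule.map (Submodule.mkQ Q) (Q ⊔ P) := by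
    rw [Submodule.map_sup, Submodule.mkQ_map_self, bot_sup_eq,
      ← Submodule.range_mkQ Q, ← Submodule.map_top, ← Submodule.map_smul'', Ideal.smul_eq_mul,
      Ideal.mul_top]
  exact ((Submodule.quotEquivOfEq _ _ h).trans
    (Submodule.quotientQuotientEquivQuotient Q (Q ⊔ P) le_sup_left)).length_eq

theorem exists_pow_le_sup [IsLocalRing A] [IsNoetherianRing A] {P Q : Ideal A}
    (h : IsLocalRing.maximalIdeal A ≤ (P ⊔ Q).radical) (t : ℕ) :
    ∃ k, IsLocalRing.maximalIdeal A ^ k ≤ Q ⊔ P ^ t := by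
  refine Ideal.exists_pow_le_of_le_radical_of_fg ?_ (IsNoetherian.noetherian _)
  refine h.trans ?_
  rw [Ideal.radical_eq_sInf, Ideal.radical_eq_sInf]
  refine le_sInf ?_
  rintro J ⟨hJ, hJp⟩
  refine sInf_le ⟨sup_le ?_ (le_sup_left.trans hJ), hJp⟩
  exact hJp.le_of_pow_le (n := t) (le_sup_right.trans hJ)

theorem limit_pos [IsLocalRing A] [IsNoetherianRing A] (I : Ideal A)
    (hI : I ≤ IsLocalRing.maximalIdeal A) (N : Type u) [AddCommGroup N] [Module A N]
    [Module.Finite A N] [Nontrivial N] (c : ℕ) (hc : Module.supportDim A N = c)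
    (hk : ∀ t : ℕ, ∃ k, IsLocalRing.maximalIdeal A ^ k • (⊤ : Submodule A N) ≤ I ^ t • ⊤) (e : ℝ)
    (he : Tendsto (fun t : ℕ => (c.factorial : ℝ) *
      ((Module.length A (N ⧸ (I ^ t • (⊤ : Submodule A N)))).toNat : ℝ) / (t : ℝ) ^ c)
      atTop (nhds e)) : 0 < e := by
  haveI : Finite (MaximalSpectrum A) := by
    haveI : Subsingleton (MaximalSpectrum A) := ⟨fun a b => MaximalSpectrum.ext
      ((IsLocalRing.eq_maximalIdeal a.2).trans (IsLocalRing.eq_maximalIdeal b.2).symm)⟩
    infer_instance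
  obtain ⟨P, ⟨N₀, hP⟩, hdeg⟩ := Groth.Agent.S3405.result A N
  rw [IsLocalRing.ringJacobson_eq_maximalIdeal] at hP
  rw [hc] at hdeg
  have hdeg' : P.natDegree = c := by exact_mod_cast hdeg
  let R : ℝ[X] := P.map (algebraMap ℚ ℝ)
  have hev : ∀ t ≥ N₀, R.eval (t : ℝ) =
      ((Module.length A (N ⧸ (IsLocalRing.maximalIdeal A ^ t • (⊤ : Submodule A N)))).toNat : ℝ) := by
    intro t ht
    obtain ⟨l, hl, hl'⟩ := hP t ht
    rw [hl, ENat.toNat_natCast, ← map_natCast (algebraMap ℚ ℝ), Polynomial.eval_map_apply, ← hl',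
      map_natCast]
  have hP0 : P ≠ 0 := by
    intro h0
    obtain ⟨l, hl, hl'⟩ := hP (N₀ + 1) (by omega)
    rw [h0, Polynomial.eval_zero] at hl'
    have hz : l = 0 := by exact_mod_cast hl'
    rw [hz, Nat.cast_zero, Module.length_eq_zero_iff, Submodule.Quotient.subsingleton_iff] at hl
    have hfg : (⊤ : Submodule A N).FG := Module.Finite.fg_top
    refine (bot_ne_top : (⊥ : Submodule A N) ≠ ⊤)
      (Submodule.eq_bot_of_le_smul_of_le_jacobson_bot (IsLocalRing.maximalIdeal A ^ (N₀ + 1)) ⊤ hfg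
        hl.ge ((Ideal.pow_le_self (by omega)).trans
          (IsLocalRing.maximalIdeal_le_jacobson _))).symm
  have hR0 : R ≠ 0 := (Polynomial.map_ne_zero_iff (algebraMap ℚ ℝ).injective).2 hP0
  have hRd : R.degree = ((X : ℝ[X]) ^ c).degree := by
    rw [Polynomial.degree_X_pow, Polynomial.degree_eq_natDegree hR0,
      Polynomial.natDegree_map_eq_of_injective (algebraMap ℚ ℝ).injective, hdeg']
  have hlim : Tendsto (fun t : ℕ => R.eval (t : ℝ) / (t : ℝ) ^ c) atTop (nhds R.leadingCoeff) := by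
    have := (Polynomial.div_tendsto_leadingCoeff_div_of_degree_eq R ((X : ℝ[X]) ^ c) hRd).comp
      (tendsto_natCast_atTop_atTop (R := ℝ))
    simpa [Function.comp_def] using this
  have hpos : 0 < R.leadingCoeff := by
    refine lt_of_le_of_ne ?_ (Ne.symm (Polynomial.leadingCoeff_ne_zero.2 hR0))
    refine ge_of_tendsto hlim (eventually_atTop.2 ⟨N₀, fun t ht => ?_⟩)
    rw [hev t ht]; positivity
  have hle : (c.factorial : ℝ) * R.leadingCoeff ≤ e := by
    refine le_of_tendsto_of_tendsto (hlim.const_mul (c.factorial : ℝ)) he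
      (eventually_atTop.2 ⟨N₀, fun t ht => ?_⟩)
    obtain ⟨k, hk⟩ := hk t
    have hk' : IsLocalRing.maximalIdeal A ^ (max k N₀) • (⊤ : Submodule A N) ≤ I ^ t • ⊤ :=
      le_trans (Submodule.smul_mono_left (Ideal.pow_le_pow_right (le_max_left _ _))) hk
    have hne : Module.length A (N ⧸ (I ^ t • (⊤ : Submodule A N))) ≠ ⊤ := by
      obtain ⟨l, hl, -⟩ := hP (max k N₀) (le_max_right _ _)
      refine ne_top_of_le_ne_top (ENat.natCast_ne_top l) (hl ▸ ?_)
      exact Module.length_le_of_surjective (Submodule.factor hk') (Submodule.factor_surjective hk')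
    have h1 : R.eval (t : ℝ) ≤
        ((Module.length A (N ⧸ (I ^ t • (⊤ : Submodule A N)))).toNat : ℝ) := by
      rw [hev t ht]
      exact_mod_cast ENat.toNat_le_toNat (Module.length_le_of_surjective
        (Submodule.factor (Submodule.smul_mono_left (Ideal.pow_right_mono hI t)))
        (Submodule.factor_surjective _)) hne
    dsimp only
    rw [mul_div_assoc]
    gcongr
  exact lt_of_lt_of_le (by positivity) hle

end Groth.Agent.IntMult88
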